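import Groth.Agent.OrbitLib.Basic
import Groth.Prelude.Def_AGF

/-!
# Saturation of stable closed subsets along a quotient with proper target
-/

set_option autoImplicit false
set_option backward.isDefEq.respectTransparency false

universe u

open CategoryTheory CategoryTheory.Limits MonoidalCategory CartesianMonoidalCategory AlgebraicGeometry
open scoped MonObj

noncomputable section

namespace Groth.Agent.OrbitClosure

variable {k : Type u} [Field k] {G H X Y : Over (Spec (CommRingCat.of k))} [GrpObj G] [GrpObj H]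

/-- The restriction of an action along a homomorphism. -/
def restrict (a : AlgGrp.Action G X) (i : H ⟶ G) [IsMonHom i] : AlgGrp.Action H X where
  act := (i ▷ X) ≫ a.act
  one_act := by rw [← comp_whiskerRight_assoc, IsMonHom.one_hom, a.one_act]
  mul_act := by
    have h1 : ∀ (T : Over (Spec (CommRingCat.of k))) (g h : T ⟶ H) (x : T ⟶ X),
        lift (g * h) x ≫ (i ▷ X) ≫ a.act = lift g (lift h x ≫ (i ▷ X) ≫ a.act) ≫ (i ▷ X) ≫ a.act := fun T g h x => by
      rw [lift_whiskerRight_assoc, lift_whiskerRight_assoc, lift_whiskerRight_assoc, MonObj.mul_comp,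
        GrpShear.lift_mul_act]
    have h2 := h1 ((H ⊗ H) ⊗ X) (fst _ _ ≫ fst _ _) (fst _ _ ≫ snd _ _) (snd _ _)
    have e1 : lift ((fst (H ⊗ H) X ≫ fst H H) * (fst (H ⊗ H) X ≫ snd H H)) (snd (H ⊗ H) X) = μ[H] ▷ X := by
      ext1
      · rw [lift_fst, whiskerRight_fst, Hom.mul_def, ← comp_lift_assoc, lift_fst_snd, Category.id_comp]
      · rw [lift_snd, whiskerRight_snd]
    have e2 : ∀ m : H ⊗ X ⟶ X, lift (fst (H ⊗ H) X ≫ fst H H) (lift (fst (H ⊗ H) X ≫ snd H H) (snd (H ⊗ H) X) ≫ m) =
        (α_ H H X).hom ≫ (H ◁ m) := fun m => by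
      ext1
      · simp
      · rw [lift_snd, Category.assoc, whiskerLeft_snd, ← Category.assoc (α_ H H X).hom]
        congr 1
        ext <;> simp
    rw [e1, e2, Category.assoc] at h2
    exact h2

theorem restrict_orbitMap (a : AlgGrp.Action G X) (i : H ⟶ G) [IsMonHom i]
    (x : 𝟙_ (Over (Spec (CommRingCat.of k))) ⟶ X) : (restrict a i).orbitMap x = i ≫ a.orbitMap x := by
  rw [OrbitLib.comp_orbitMap, AlgGrp.Action.orbitMap, restrict, lift_whiskerRight_assoc, Category.id_comp]

theorem restrict_act (a : AlgGrp.Action G X) (i : H ⟶ G) [IsMonHom i] {T : Over (Spec (CommRingCat.of k))}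
    (h : T ⟶ H) (x : T ⟶ X) : lift h x ≫ (restrict a i).act = lift (h ≫ i) x ≫ a.act := by
  rw [restrict, lift_whiskerRight_assoc]

/-- An invariant set pulled back by points. -/
theorem invariant_pt {a : AlgGrp.Action G X} {D : Set X.left} (hD : OrbitLib.Invariant a D)
    {T : Over (Spec (CommRingCat.of k))} (g : T ⟶ G) (x : T ⟶ X) (t : T.left) :
    (lift g x ≫ a.act).left t ∈ D ↔ x.left t ∈ D := by
  have h := Set.ext_iff.1 hD ((lift g x).left t)
  simp only [Set.mem_preimage] at h
  have e1 : a.act.left ((lift g x).left t) = (lift g x ≫ a.act).left t := (Scheme.Hom.comp_apply _ _ _).symm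
  have e2 : (snd G X).left ((lift g x).left t) = (lift g x ≫ snd G X).left t := (Scheme.Hom.comp_apply _ _ _).symm
  rwa [e1, e2, lift_snd] at h

/-- A closed subset stable under `H` sweeps out a closed set when `G/H` is proper. -/
theorem isClosed_sweep (a : AlgGrp.Action G X) (i : H ⟶ G) [IsMonHom i] (b : AlgGrp.Action G Y)
    (o : 𝟙_ (Over (Spec (CommRingCat.of k))) ⟶ Y) (hY : AGF.IsQuotient i Y b o) [IsProper Y.hom]
    [LocallyOfFiniteType G.hom] (Z : Set X.left) (hZ : IsClosed Z) (hZH : OrbitLib.Invariant (restrict a i) Z) :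
    IsClosed (a.act.left '' ((snd G X).left ⁻¹' Z)) := by
  obtain ⟨hft, hfl, hsu, hsq⟩ := hY
  haveI := hft
  haveI := hfl
  haveI := hsu
  let q := b.orbitMap o
  haveI : LocallyOfFiniteType (q.left ≫ Y.hom) := by rw [Over.w]; infer_instance
  haveI : LocallyOfFiniteType q.left := locallyOfFiniteType_of_comp q.left Y.hom
  haveI : IsLocallyNoetherian Y.left := LocallyOfFiniteType.isLocallyNoetherian Y.hom
  haveI : LocallyOfFinitePresentation q.left := inferInstance
  have hpm : ∀ (P : MorphismProperty Scheme.{u}) [P.IsStableUnderBaseChange] [P.IsStableUnderComposition],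
      P q.left → P (𝟙 X.left) → P (q ▷ X).left := fun P _ _ h1 h2 => by
    rw [Over.whiskerRight_left]
    exact P.pullbackMap h1 h2 (Over.w q).symm (Category.id_comp _).symm
  let Q := (q ▷ X).left
  haveI : Flat Q := hpm @Flat hfl inferInstance
  haveI : Surjective Q := hpm @Surjective hsu inferInstance
  haveI : LocallyOfFinitePresentation Q := hpm @LocallyOfFinitePresentation inferInstance inferInstance
  haveI : UniversallyOpen Q := inferInstance
  let s := OrbitLib.shearX a
  let W : Set (G ⊗ X).left := (s.inv ≫ snd G X).left ⁻¹' Z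
  have hW : IsClosed W := hZ.preimage (s.inv ≫ snd G X).left.continuous
  have himg : a.act.left '' ((snd G X).left ⁻¹' Z) = (snd G X).left '' W := by
    ext z
    constructor
    · rintro ⟨p, hp, rfl⟩
      refine ⟨s.hom.left p, ?_, ?_⟩
      · show (s.inv ≫ snd G X).left (s.hom.left p) ∈ Z
        rw [← Scheme.Hom.comp_apply, ← Over.comp_left, Iso.hom_inv_id_assoc]
        exact hp
      · rw [← Scheme.Hom.comp_apply, ← Over.comp_left, OrbitLib.shearX_snd]
    · rintro ⟨p, hp, rfl⟩
      refine ⟨s.inv.left p, ?_, ?_⟩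
      · show (snd G X).left (s.inv.left p) ∈ Z
        rw [← Scheme.Hom.comp_apply, ← Over.comp_left]
        exact hp
      · rw [← Scheme.Hom.comp_apply, ← Over.comp_left, ← OrbitLib.shearX_snd a, Iso.inv_hom_id_assoc]
  -- saturation
  have hsat : ∀ p p' : (G ⊗ X).left, Q p = Q p' → p ∈ W → p' ∈ W := by
    intro p p' he hp
    obtain ⟨z, hz1, hz2⟩ := Scheme.Pullback.exists_preimage_pullback (f := Q) (g := Q) p p' he
    let K := AlgebraicClosure ((pullback Q Q).residueField z)
    let ζ : Spec (CommRingCat.of K) ⟶ pullback Q Q :=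
      Spec.map (CommRingCat.ofHom (algebraMap ((pullback Q Q).residueField z) K)) ≫ (pullback Q Q).fromSpecResidueField z
    have hζ : ∀ t, ζ t = z := fun t => (Scheme.Hom.comp_apply _ _ t).trans (Scheme.fromSpecResidueField_apply z _)
    let T : Over (Spec (CommRingCat.of k)) := Over.mk ((ζ ≫ pullback.fst Q Q) ≫ (G ⊗ X).hom)
    let P₁ : T ⟶ G ⊗ X := Over.homMk (ζ ≫ pullback.fst Q Q) rfl
    let P₂ : T ⟶ G ⊗ X := Over.homMk (ζ ≫ pullback.snd Q Q) (by
      show (ζ ≫ pullback.snd Q Q) ≫ (G ⊗ X).hom = (ζ ≫ pullback.fst Q Q) ≫ (G ⊗ X).hom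
      rw [← Over.w (q ▷ X)]
      simp only [Category.assoc]
      exact congrArg (ζ ≫ ·) (pullback.condition_assoc (Y ⊗ X).hom).symm)
    have hPP : P₁ ≫ (q ▷ X) = P₂ ≫ (q ▷ X) := Over.OverMorphism.ext (by
      show (ζ ≫ pullback.fst Q Q) ≫ Q = (ζ ≫ pullback.snd Q Q) ≫ Q
      simp only [Category.assoc, pullback.condition])
    have hg : (P₁ ≫ fst G X) ≫ q = (P₂ ≫ fst G X) ≫ q := by
      have := congrArg (· ≫ fst Y X) hPP
      simpa only [Category.assoc, whiskerRight_fst] using this
    have hx : P₁ ≫ snd G X = P₂ ≫ snd G X := by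
      have := congrArg (· ≫ snd Y X) hPP
      simpa only [Category.assoc, whiskerRight_snd] using this
    let w := hsq.lift (P₁ ≫ fst G X) (P₂ ≫ fst G X) hg
    let h := w ≫ snd G H
    have hg2 : P₂ ≫ fst G X = (P₁ ≫ fst G X) * (h ≫ i) := by
      rw [← hsq.lift_snd (P₁ ≫ fst G X) (P₂ ≫ fst G X) hg, Hom.mul_def]
      conv_lhs => rw [show hsq.lift (P₁ ≫ fst G X) (P₂ ≫ fst G X) hg = lift (w ≫ fst G H) h by ext <;> simp [w, h]]
      rw [lift_whiskerLeft_assoc, hsq.lift_fst]
    let t : T.left := (IsLocalRing.closedPoint K : PrimeSpectrum K)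
    have hp1 : P₁.left t = p := by
      show (ζ ≫ pullback.fst Q Q) t = p
      rw [Scheme.Hom.comp_apply, hζ, hz1]
    have hp2 : P₂.left t = p' := by
      show (ζ ≫ pullback.snd Q Q) t = p'
      rw [Scheme.Hom.comp_apply, hζ, hz2]
    have hinv : ∀ P : T ⟶ G ⊗ X, P ≫ s.inv ≫ snd G X = lift (P ≫ fst G X)⁻¹ (P ≫ snd G X) ≫ a.act := fun P => by
      simp only [s, OrbitLib.shearX, GrpShear.shear, lift_snd, comp_lift_assoc, GrpObj.comp_inv, Category.comp_id]
    have key : P₂ ≫ s.inv ≫ snd G X = lift h⁻¹ (P₁ ≫ s.inv ≫ snd G X) ≫ (restrict a i).act := by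
      rw [restrict_act, hinv, hinv, ← GrpShear.lift_mul_act, hg2, hx, mul_inv_rev, GrpObj.inv_comp]
    rw [← hp1] at hp
    rw [← hp2]
    show (s.inv ≫ snd G X).left (P₂.left t) ∈ Z
    change (s.inv ≫ snd G X).left (P₁.left t) ∈ Z at hp
    rw [← Scheme.Hom.comp_apply, ← Over.comp_left] at hp ⊢
    rw [key]
    exact (invariant_pt hZH h⁻¹ _ t).2 hp
  have hcl : IsClosed (Q '' W) := by
    rw [← isOpen_compl_iff]
    have e : (Q '' W)ᶜ = Q '' Wᶜ := by
      ext y
      constructor
      · intro hy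
        obtain ⟨p, rfl⟩ := Q.surjective y
        exact ⟨p, fun hp => hy ⟨p, hp, rfl⟩, rfl⟩
      · rintro ⟨p, hp, rfl⟩ ⟨p', hp', he⟩
        exact hp (hsat p' p he hp')
    rw [e]
    exact Q.isOpenMap _ hW.isOpen_compl
  haveI : UniversallyClosed (snd Y X).left := by rw [Over.snd_left]; infer_instance
  have hc2 := (snd Y X).left.isClosedMap _ hcl
  rw [himg]
  convert hc2 using 1
  rw [← Set.image_comp]
  refine Set.image_congr fun p _ => ?_
  show _ = (snd Y X).left ((q ▷ X).left p)
  rw [← Scheme.Hom.comp_apply, ← Over.comp_left, whiskerRight_snd]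

end Groth.Agent.OrbitClosure
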