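import Mathlib

/-! Closures of conjugation orbits of matrices over an algebraically closed field. -/

universe u

namespace OrbitClosureLib

open Matrix

variable {k : Type u} [Field k] {n : ℕ}

/-- `C` lies in the Zariski closure of the conjugation orbit of `B`. -/
def InCl (B C : Matrix (Fin n) (Fin n) k) : Prop :=
  ∀ F : MvPolynomial (Fin n × Fin n) k,
    (∀ A : Matrix (Fin n) (Fin n) k, IsUnit A.det →
      MvPolynomial.eval (fun p => (A * B * A⁻¹) p.1 p.2) F = 0) →
    MvPolynomial.eval (fun p => C p.1 p.2) F = 0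

theorem InCl.refl (B : Matrix (Fin n) (Fin n) k) : InCl B B := fun F h => by
  simpa using h 1 (by simp)

/-- Pulling back an equation along `X ↦ P X Q`. -/
theorem exists_pullback (P Q : Matrix (Fin n) (Fin n) k) (F : MvPolynomial (Fin n × Fin n) k) :
    ∃ G : MvPolynomial (Fin n × Fin n) k, ∀ X : Matrix (Fin n) (Fin n) k,
      MvPolynomial.eval (fun p => X p.1 p.2) G = MvPolynomial.eval (fun p => (P * X * Q) p.1 p.2) F := by
  let Φ : Matrix (Fin n) (Fin n) (MvPolynomial (Fin n × Fin n) k) :=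
    P.map MvPolynomial.C * Matrix.mvPolynomialX (Fin n) (Fin n) k * Q.map MvPolynomial.C
  refine ⟨MvPolynomial.bind₁ (fun p => Φ p.1 p.2) F, fun X => ?_⟩
  show MvPolynomial.eval₂Hom (RingHom.id k) _ _ = _
  rw [MvPolynomial.eval₂Hom_bind₁]
  refine congrArg (fun v => MvPolynomial.eval v F) (funext fun p => ?_)
  have : Φ.map (MvPolynomial.eval₂Hom (RingHom.id k) fun q => X q.1 q.2) = P * X * Q := by
    simp only [Φ, Matrix.map_mul]
    congr 1
    congr 1
    all_goals first
      | (ext i j; simp)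
  exact congrFun (congrFun this p.1) p.2

theorem InCl.trans {B C D : Matrix (Fin n) (Fin n) k} (h : InCl B C) (h' : InCl C D) : InCl B D := by
  intro F hF
  refine h' F fun A hA => ?_
  obtain ⟨G, hG⟩ := exists_pullback A A⁻¹ F
  rw [← hG]
  refine h G fun A' hA' => ?_
  rw [hG]
  have := hF (A * A') (by rw [Matrix.det_mul]; exact hA.mul hA')
  rwa [Matrix.mul_inv_rev, show A * A' * B * (A'⁻¹ * A⁻¹) = A * (A' * B * A'⁻¹) * A⁻¹ by
    simp only [Matrix.mul_assoc]] at this

theorem InCl.of_conj (B A : Matrix (Fin n) (Fin n) k) (hA : IsUnit A.det) : InCl B (A * B * A⁻¹) :=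
  fun _ hF => hF A hA

theorem charpoly_conj (B A : Matrix (Fin n) (Fin n) k) (hA : IsUnit A.det) :
    (A * B * A⁻¹).charpoly = B.charpoly := by
  obtain ⟨u, hu⟩ := (Matrix.isUnit_iff_isUnit_det A).mpr hA
  rw [← hu]
  exact Matrix.charpoly_units_conj u B

theorem InCl.charpoly_eq {B C : Matrix (Fin n) (Fin n) k} (h : InCl B C) : C.charpoly = B.charpoly := by
  ext i
  have key : ∀ X : Matrix (Fin n) (Fin n) k,
      MvPolynomial.eval (fun p => X p.1 p.2) ((Matrix.charpoly.univ k (Fin n)).coeff i) = X.charpoly.coeff i := by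
    intro X
    have := Matrix.charpoly.univ_coeff_eval₂Hom (R := k) (S := k) (n := Fin n) (RingHom.id k)
      (fun p => X p.1 p.2) i
    exact this
  have h1 := h ((Matrix.charpoly.univ k (Fin n)).coeff i - MvPolynomial.C (B.charpoly.coeff i)) fun A hA => by
    rw [map_sub, MvPolynomial.eval_C, key, charpoly_conj B A hA, sub_self]
  rwa [map_sub, MvPolynomial.eval_C, key, sub_eq_zero] at h1

/-- The block matrix `diag(a, X)`. -/
def blk {R : Type*} [Zero R] (a : R) (X : Matrix (Fin n) (Fin n) R) : Matrix (Fin (n + 1)) (Fin (n + 1)) R :=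
  Matrix.of (Fin.cons (Fin.cons a 0) fun i => Fin.cons 0 (X i))

theorem blk_mul (a b : k) (X Y : Matrix (Fin n) (Fin n) k) : blk a X * blk b Y = blk (a * b) (X * Y) := by
  ext i j
  rw [Matrix.mul_apply, Fin.sum_univ_succ]
  refine Fin.cases ?_ ?_ i <;> refine Fin.cases ?_ ?_ j <;> simp [blk, Matrix.mul_apply]

theorem blk_one : blk (1 : k) (1 : Matrix (Fin n) (Fin n) k) = 1 := by
  ext i j
  refine Fin.cases ?_ ?_ i <;> refine Fin.cases ?_ ?_ j <;>
    simp [blk, Matrix.one_apply, Fin.succ_ne_zero, (Fin.succ_ne_zero _).symm]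

theorem InCl.blk {X Y : Matrix (Fin n) (Fin n) k} (h : InCl X Y) (a : k) :
    InCl (blk a X) (blk a Y) := by
  intro F hF
  let G : Fin (n + 1) × Fin (n + 1) → MvPolynomial (Fin n × Fin n) k := fun p =>
    (OrbitClosureLib.blk (MvPolynomial.C a) (Matrix.mvPolynomialX (Fin n) (Fin n) k)) p.1 p.2
  have hG : ∀ Z : Matrix (Fin n) (Fin n) k,
      MvPolynomial.eval (fun p => Z p.1 p.2) (MvPolynomial.bind₁ G F) =
        MvPolynomial.eval (fun p => (OrbitClosureLib.blk a Z) p.1 p.2) F := by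
    intro Z
    show MvPolynomial.eval₂Hom (RingHom.id k) _ _ = _
    rw [MvPolynomial.eval₂Hom_bind₁]
    refine congrArg (fun v => MvPolynomial.eval v F) (funext fun ⟨i, j⟩ => ?_)
    simp only [G]
    refine Fin.cases ?_ ?_ i <;> refine Fin.cases ?_ ?_ j <;> simp [OrbitClosureLib.blk]
  rw [← hG]
  refine h _ fun A hA => ?_
  rw [hG]
  have h1 : OrbitClosureLib.blk 1 A * OrbitClosureLib.blk 1 A⁻¹ = (1 : Matrix (Fin (n + 1)) (Fin (n + 1)) k) := by
    rw [blk_mul, one_mul, Matrix.mul_nonsing_inv _ hA, blk_one]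
  have := hF (OrbitClosureLib.blk 1 A) (Matrix.isUnit_det_of_right_inverse h1)
  rwa [Matrix.inv_eq_right_inv h1, blk_mul, blk_mul, one_mul, mul_one] at this

/-- A matrix with first column `a e₀` degenerates to a block diagonal one. -/
theorem inCl_blk (M : Matrix (Fin (n + 1)) (Fin (n + 1)) k) [Infinite k]
    (hcol : ∀ i : Fin n, M i.succ 0 = 0) :
    InCl M (blk (M 0 0) (M.submatrix Fin.succ Fin.succ)) := by
  intro F hF
  let e : Fin (n + 1) × Fin (n + 1) → Polynomial k := fun p =>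
    if p.1 = 0 ∧ p.2 ≠ 0 then Polynomial.C (M p.1 p.2) * Polynomial.X else Polynomial.C (M p.1 p.2)
  let q : Polynomial k := MvPolynomial.aeval e F
  have hq : ∀ t, q.eval t = MvPolynomial.eval (fun p => (e p).eval t) F := fun t => by
    rw [← Polynomial.coe_aeval_eq_eval, ← AlgHom.comp_apply, MvPolynomial.comp_aeval]
    rfl
  have h0 : q = 0 := by
    refine Polynomial.eq_zero_of_infinite_isRoot _ ((Set.finite_singleton (0 : k)).infinite_compl.mono ?_)
    intro t (ht : t ≠ 0)
    show q.eval t = 0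
    rw [hq]
    let d : Fin (n + 1) → k := Fin.cons t fun _ => 1
    let d' : Fin (n + 1) → k := Fin.cons t⁻¹ fun _ => 1
    have hd : Matrix.diagonal d * Matrix.diagonal d' = 1 := by
      rw [Matrix.diagonal_mul_diagonal, ← Matrix.diagonal_one]
      congr 1
      funext i
      refine Fin.cases ?_ ?_ i <;> simp [d, d', ht]
    have := hF (Matrix.diagonal d) (Matrix.isUnit_det_of_right_inverse hd)
    rw [Matrix.inv_eq_right_inv hd] at this
    refine (congrArg (fun v => MvPolynomial.eval v F) (funext fun ⟨i, j⟩ => ?_)).trans this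
    simp only [e, Matrix.mul_diagonal, Matrix.diagonal_mul, Polynomial.eval_C, d, d']
    rcases Fin.eq_zero_or_eq_succ i with rfl | ⟨i', rfl⟩ <;>
      rcases Fin.eq_zero_or_eq_succ j with rfl | ⟨j', rfl⟩
    · simp [mul_comm t, mul_assoc, ht]
    · simp [Fin.succ_ne_zero, mul_comm t]
    · simp [Fin.succ_ne_zero, hcol]
    · simp [Fin.succ_ne_zero]
  have := hq 0
  rw [h0, Polynomial.eval_zero] at this
  refine (congrArg (fun v => MvPolynomial.eval v F) (funext fun ⟨i, j⟩ => ?_)).trans this.symm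
  simp only [e]
  refine Fin.cases ?_ ?_ i <;> refine Fin.cases ?_ ?_ j <;>
    simp [blk, hcol, Fin.succ_ne_zero]

theorem exists_diag [IsAlgClosed k] : ∀ (n : ℕ) (B : Matrix (Fin n) (Fin n) k),
    ∃ d : Fin n → k, InCl B (Matrix.diagonal d) := by
  intro n
  induction n with
  | zero =>
    intro B
    refine ⟨0, ?_⟩
    rw [show Matrix.diagonal (0 : Fin 0 → k) = B from Matrix.ext fun i => i.elim0]
    exact InCl.refl B
  | succ n ih =>
    intro B
    obtain ⟨c, hc⟩ := Module.End.exists_eigenvalue (Matrix.toLin' B)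
    obtain ⟨v, hv⟩ := hc.exists_hasEigenvector
    have hBv : B *ᵥ v = c • v := by simpa using hv.apply_eq_smul
    obtain ⟨i₀, hi₀⟩ := Function.ne_iff.mp hv.2
    let P := (1 : Matrix (Fin (n + 1)) (Fin (n + 1)) k).updateCol i₀ v * Matrix.swap k 0 i₀
    have hP : IsUnit P.det := by
      refine isUnit_iff_ne_zero.mpr ?_
      rw [Matrix.det_mul]
      refine mul_ne_zero ?_ ?_
      · rw [← Matrix.cramer_apply, Matrix.cramer_one]
        exact hi₀
      · exact isUnit_iff_ne_zero.mp (Matrix.isUnit_det_of_right_inverse (Matrix.swap_mul_self 0 i₀))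
    have hP0 : P *ᵥ Pi.single 0 1 = v := by
      funext a
      rw [Matrix.mulVec_single_one]
      simp [P, Matrix.updateCol_self]
    have hcol : ∀ a, (P⁻¹ * B * P) a 0 = if a = 0 then c else 0 := by
      intro a
      have h1 : (P⁻¹ * B * P) *ᵥ Pi.single 0 1 = c • Pi.single 0 1 := by
        rw [Matrix.mul_assoc, ← Matrix.mulVec_mulVec, ← Matrix.mulVec_mulVec, hP0, hBv, Matrix.mulVec_smul,
          ← hP0, Matrix.mulVec_mulVec, Matrix.nonsing_inv_mul _ hP, Matrix.one_mulVec]
      have := congrFun h1 a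
      rw [Matrix.mulVec_single_one] at this
      simpa [Pi.single_apply] using this
    have h1 : InCl B (P⁻¹ * B * P) := by
      have := InCl.of_conj B P⁻¹ (Matrix.isUnit_nonsing_inv_det _ hP)
      rwa [Matrix.nonsing_inv_nonsing_inv _ hP] at this
    have h2 := inCl_blk (P⁻¹ * B * P) fun i => by rw [hcol, if_neg (Fin.succ_ne_zero i)]
    rw [hcol, if_pos rfl] at h2
    obtain ⟨d, hd⟩ := ih ((P⁻¹ * B * P).submatrix Fin.succ Fin.succ)
    refine ⟨Fin.cons c d, (h1.trans h2).trans ?_⟩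
    convert hd.blk c using 1
    ext i j
    refine Fin.cases ?_ ?_ i <;> refine Fin.cases ?_ ?_ j <;>
      simp [blk, Matrix.diagonal_apply, Fin.succ_ne_zero, (Fin.succ_ne_zero _).symm]

theorem diag_similar (d₁ d₂ : Fin n → k) (h : (Matrix.diagonal d₁).charpoly = (Matrix.diagonal d₂).charpoly) :
    ∃ A : Matrix (Fin n) (Fin n) k, IsUnit A.det ∧ A * Matrix.diagonal d₁ * A⁻¹ = Matrix.diagonal d₂ := by
  classical
  rw [Matrix.charpoly_diagonal, Matrix.charpoly_diagonal] at h
  have hr := congrArg Polynomial.roots h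
  have hd : ∀ d : Fin n → k, (∏ i, (Polynomial.X - Polynomial.C (d i))).roots = Finset.univ.val.map d := fun d => by
    rw [Finset.prod_eq_multiset_prod, ← Polynomial.roots_multiset_prod_X_sub_C (Finset.univ.val.map d),
      Multiset.map_map]
    rfl
  rw [hd, hd] at hr
  have hcard : ∀ c, Fintype.card {i // d₂ i = c} = Fintype.card {i // d₁ i = c} := by
    intro c
    rw [Fintype.card_subtype, Fintype.card_subtype]
    have := congrArg (Multiset.count c) hr
    rw [Multiset.count_map, Multiset.count_map] at this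
    simp only [Finset.card, Finset.filter_val]
    simpa [eq_comm] using this.symm
  let σ : Equiv.Perm (Fin n) := Equiv.ofFiberEquiv fun c => Fintype.equivOfCardEq (hcard c)
  have hσ : ∀ i, d₁ (σ i) = d₂ i := fun i => Equiv.ofFiberEquiv_map _ i
  refine ⟨σ.permMatrix k, ?_, ?_⟩
  · rw [Matrix.det_permutation]
    exact (Units.isUnit _).map (Int.castRingHom k)
  · have hu : IsUnit (σ.permMatrix k).det := by
      rw [Matrix.det_permutation]; exact (Units.isUnit _).map (Int.castRingHom k)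
    rw [show σ.permMatrix k * Matrix.diagonal d₁ = Matrix.diagonal d₂ * σ.permMatrix k from ?_,
      Matrix.mul_nonsing_inv_cancel_right _ _ hu]
    ext a b
    rw [Matrix.diagonal_mul, Matrix.mul_diagonal]
    by_cases hab : σ a = b
    · subst hab; simp [Equiv.Perm.permMatrix, mul_comm, hσ]
    · simp [Equiv.Perm.permMatrix, PEquiv.toMatrix_apply, hab]

theorem exists_diagonalize [IsAlgClosed k] (S : Matrix (Fin n) (Fin n) k)
    (hS : Module.End.IsSemisimple (Matrix.toLin' S)) :
    ∃ (A : Matrix (Fin n) (Fin n) k) (d : Fin n → k), IsUnit A.det ∧ A * Matrix.diagonal d * A⁻¹ = S := by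
  classical
  let V : Set (Fin n → k) := {v | ∃ c : k, S *ᵥ v = c • v}
  have hV : ⊤ ≤ Submodule.span k V := by
    rw [← hS.iSup_eigenspace_eq_top, iSup_le_iff]
    intro c v hv
    exact Submodule.subset_span ⟨c, by simpa using Module.End.mem_eigenspace_iff.mp hv⟩
  let b := Module.Basis.ofSpan hV
  haveI : Fintype _ := FiniteDimensional.fintypeBasisIndex b
  let e := Fintype.equivFinOfCardEq ((Module.finrank_eq_card_basis b).symm.trans (Module.finrank_fin_fun k))
  let b' := b.reindex e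
  have hb' : ∀ i, ∃ c : k, S *ᵥ b' i = c • b' i := by
    intro i
    have := Module.Basis.ofSpan_subset hV (Set.mem_range_self (e.symm i))
    simpa [b', b, V] using this
  choose d hd using hb'
  let P : Matrix (Fin n) (Fin n) k := Matrix.of fun i j => b' j i
  have hP : IsUnit P.det := by
    rw [← Matrix.isUnit_iff_isUnit_det, ← Matrix.linearIndependent_cols_iff_isUnit]
    exact b'.linearIndependent
  refine ⟨P, d, hP, ?_⟩
  have hSP : S * P = P * Matrix.diagonal d := by
    ext i j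
    rw [Matrix.mul_diagonal]
    have := congrFun (hd j) i
    simp only [Pi.smul_apply, smul_eq_mul] at this
    rw [Matrix.mul_apply]
    simp only [P, Matrix.of_apply]
    rw [mul_comm, ← this]
    rfl
  rw [← hSP, Matrix.mul_nonsing_inv_cancel_right _ _ hP]

theorem charpoly_add_nilpotent (S N : Matrix (Fin n) (Fin n) k) (hN : IsNilpotent N) (hc : Commute S N) :
    (S + N).charpoly = S.charpoly := by
  classical
  let L := FractionRing (Polynomial k)
  let ι : k →+* L := (algebraMap (Polynomial k) L).comp Polynomial.C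
  let M : Matrix (Fin n) (Fin n) L :=
    Matrix.scalar (Fin n) (algebraMap (Polynomial k) L Polynomial.X) - S.map ι
  have hX : ∀ Z : Matrix (Fin n) (Fin n) k,
      (Matrix.scalar (Fin n) (algebraMap (Polynomial k) L Polynomial.X) - Z.map ι).det =
        algebraMap (Polynomial k) L Z.charpoly := by
    intro Z
    rw [Matrix.charpoly, RingHom.map_det]
    congr 1
    ext i j
    by_cases h : i = j
    · subst h; simp [ι, Matrix.scalar_apply]
    · simp [ι, Matrix.scalar_apply, h]
  apply IsFractionRing.injective (Polynomial k) L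
  rw [← hX, ← hX]
  have hMu : IsUnit M.det := by
    rw [hX, isUnit_iff_ne_zero]
    exact (map_ne_zero_iff _ (IsFractionRing.injective (Polynomial k) L)).mpr S.charpoly_monic.ne_zero
  have hcM : Commute M (N.map ι) := by
    refine Commute.sub_left (Matrix.scalar_commute _ (fun _ => Commute.all _ _) _) ?_
    exact hc.map ι.mapMatrix
  have hcM' : Commute M⁻¹ (N.map ι) := by
    show M⁻¹ * N.map ι = N.map ι * M⁻¹
    have := congrArg (fun Z => M⁻¹ * Z * M⁻¹) hcM.eq
    simp only [← Matrix.mul_assoc, Matrix.nonsing_inv_mul _ hMu, Matrix.one_mul] at this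
    rw [Matrix.mul_assoc (M⁻¹ * N.map ι), Matrix.mul_nonsing_inv _ hMu, Matrix.mul_one] at this
    exact this.symm
  have hnil : IsNilpotent (M⁻¹ * N.map ι) := hcM'.isNilpotent_mul_left (hN.map ι.mapMatrix)
  have hdet : (1 - M⁻¹ * N.map ι).det = 1 := by
    have h1 := Matrix.isNilpotent_charpoly_sub_pow_of_isNilpotent hnil
    rw [isNilpotent_iff_eq_zero, sub_eq_zero] at h1
    have h2 := congrArg (Polynomial.eval 1) h1
    rw [Matrix.eval_charpoly, map_one, Polynomial.eval_pow, Polynomial.eval_X, one_pow] at h2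
    exact h2
  have : Matrix.scalar (Fin n) (algebraMap (Polynomial k) L Polynomial.X) - (S + N).map ι =
      M * (1 - M⁻¹ * N.map ι) := by
    rw [Matrix.mul_sub, Matrix.mul_one, ← Matrix.mul_assoc, Matrix.mul_nonsing_inv _ hMu, Matrix.one_mul,
      Matrix.map_add _ (map_add ι)]
    simp only [M]
    abel
  rw [this, Matrix.det_mul, hdet, mul_one]

theorem main [IsAlgClosed k] (B₁ S₁ N₁ B₂ S₂ N₂ : Matrix (Fin n) (Fin n) k)
    (hS₁ : Module.End.IsSemisimple (Matrix.toLin' S₁)) (hN₁ : IsNilpotent N₁) (hc₁ : Commute S₁ N₁)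
    (hB₁ : B₁ = S₁ + N₁)
    (hS₂ : Module.End.IsSemisimple (Matrix.toLin' S₂)) (hN₂ : IsNilpotent N₂) (hc₂ : Commute S₂ N₂)
    (hB₂ : B₂ = S₂ + N₂) :
    (∃ C, InCl B₁ C ∧ InCl B₂ C) ↔
      ∃ A : Matrix (Fin n) (Fin n) k, IsUnit A.det ∧ A * S₁ * A⁻¹ = S₂ := by
  have e₁ : B₁.charpoly = S₁.charpoly := hB₁ ▸ charpoly_add_nilpotent S₁ N₁ hN₁ hc₁
  have e₂ : B₂.charpoly = S₂.charpoly := hB₂ ▸ charpoly_add_nilpotent S₂ N₂ hN₂ hc₂
  constructor
  · rintro ⟨C, h₁, h₂⟩
    obtain ⟨P₁, d₁, hP₁, hd₁⟩ := exists_diagonalize S₁ hS₁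
    obtain ⟨P₂, d₂, hP₂, hd₂⟩ := exists_diagonalize S₂ hS₂
    have hd : (Matrix.diagonal d₁).charpoly = (Matrix.diagonal d₂).charpoly := by
      rw [← charpoly_conj (Matrix.diagonal d₁) P₁ hP₁, hd₁, ← charpoly_conj (Matrix.diagonal d₂) P₂ hP₂, hd₂, ← e₁, ← e₂,
        ← h₁.charpoly_eq, h₂.charpoly_eq]
    obtain ⟨A, hA, hAd⟩ := diag_similar d₁ d₂ hd
    refine ⟨P₂ * A * P₁⁻¹, ?_, ?_⟩
    · rw [Matrix.det_mul, Matrix.det_mul]
      exact (hP₂.mul hA).mul (Matrix.isUnit_nonsing_inv_det _ hP₁)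
    · rw [← hd₁, ← hd₂, ← hAd, Matrix.mul_inv_rev, Matrix.mul_inv_rev, Matrix.nonsing_inv_nonsing_inv _ hP₁]
      simp only [Matrix.mul_assoc, Matrix.nonsing_inv_mul_cancel_left _ _ hP₁]
  · rintro ⟨A, hA, rfl⟩
    obtain ⟨d₁, h₁⟩ := exists_diag n B₁
    obtain ⟨d₂, h₂⟩ := exists_diag n B₂
    obtain ⟨P, hP, hPd⟩ := diag_similar d₁ d₂ (by
      rw [h₁.charpoly_eq, h₂.charpoly_eq, e₁, e₂, charpoly_conj _ A hA])
    refine ⟨Matrix.diagonal d₂, h₁.trans ?_, h₂⟩
    rw [← hPd]
    exact InCl.of_conj _ P hP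

end OrbitClosureLib
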