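import Groth.Agent.OrbitLib.DimAdd
import Groth.Agent.FibDimLib.Semicont
import Groth.Agent.FibDimLib.SchemeInv
import Groth.Agent.FibDimLib.Apps

/-!
# Semicontinuity of the dimension of orbits
-/

set_option autoImplicit false
set_option backward.isDefEq.respectTransparency false

universe u

open CategoryTheory CategoryTheory.Limits MonoidalCategory CartesianMonoidalCategory AlgebraicGeometry
open TopologicalSpace Topology
open scoped MonObj

noncomputable section

namespace Groth.Agent.OrbitClosure

variable {k : Type u} [Field k] {G X : Over (Spec (CommRingCat.of k))} [GrpObj G] (a : AlgGrp.Action G X)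

/-- The family of stabilisers. -/
def stab : Over (Spec (CommRingCat.of k)) :=
  Limits.pullback (lift a.act (snd G X)) (lift (𝟙 X) (𝟙 X))

/-- Its projection to `X`. -/
def stabProj : stab a ⟶ X := pullback.snd (lift a.act (snd G X)) (lift (𝟙 X) (𝟙 X))

/-- Its inclusion into `G ⊗ X`. -/
def stabIncl : stab a ⟶ G ⊗ X := pullback.fst (lift a.act (snd G X)) (lift (𝟙 X) (𝟙 X))

theorem stab_act : stabIncl a ≫ a.act = stabProj a := by
  have h := congrArg (· ≫ fst X X) (pullback.condition (f := lift a.act (snd G X)) (g := lift (𝟙 X) (𝟙 X)))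
  simp only [Category.assoc, lift_fst, Category.comp_id] at h
  exact h

theorem stab_snd : stabIncl a ≫ snd G X = stabProj a := by
  have h := congrArg (· ≫ snd X X) (pullback.condition (f := lift a.act (snd G X)) (g := lift (𝟙 X) (𝟙 X)))
  simp only [Category.assoc, lift_snd, Category.comp_id] at h
  exact h

/-- The unit section. -/
def stabOne : X ⟶ stab a :=
  pullback.lift (lift 1 (𝟙 X)) (𝟙 X) (by
    rw [comp_lift, GrpShear.lift_one_act, lift_snd, Category.id_comp])

theorem stabOne_proj : stabOne a ≫ stabProj a = 𝟙 X := pullback.lift_snd _ _ _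

theorem stabOne_incl : stabOne a ≫ stabIncl a = lift 1 (𝟙 X) := pullback.lift_fst _ _ _

variable (x : 𝟙_ (Over (Spec (CommRingCat.of k))) ⟶ X)

/-- The stabiliser of a point as a member of the family. -/
def stabPt : Limits.pullback (a.orbitMap x) x ⟶ stab a :=
  pullback.lift (lift (pullback.fst (a.orbitMap x) x) (pullback.snd (a.orbitMap x) x ≫ x))
    (pullback.snd (a.orbitMap x) x ≫ x) (by
      rw [comp_lift, comp_lift, lift_snd, Category.comp_id]
      congr 1
      rw [toUnit_unique (pullback.snd (a.orbitMap x) x) (toUnit _), ← OrbitLib.comp_orbitMap, pullback.condition,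
        toUnit_unique (pullback.snd (a.orbitMap x) x) (toUnit _)])

theorem isPullback_stabPt :
    IsPullback (stabPt a x) (pullback.snd (a.orbitMap x) x) (stabProj a) x := by
  have w : stabPt a x ≫ stabProj a = pullback.snd (a.orbitMap x) x ≫ x := pullback.lift_snd _ _ _
  have hw : ∀ s : PullbackCone (stabProj a) x, ((s.fst ≫ stabIncl a) ≫ fst G X) ≫ a.orbitMap x = s.snd ≫ x := by
    intro s
    rw [← s.condition, OrbitLib.comp_orbitMap]
    refine Eq.trans ?_ ((Category.assoc _ _ _).trans (congrArg (s.fst ≫ ·) (stab_act a)))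
    congr 1
    ext1
    · rw [lift_fst]
    · rw [lift_snd, Category.assoc, stab_snd, s.condition, toUnit_unique s.snd (toUnit _)]
  have hi : stabPt a x ≫ stabIncl a = lift (pullback.fst (a.orbitMap x) x) (pullback.snd (a.orbitMap x) x ≫ x) :=
    pullback.lift_fst _ _ _
  refine ⟨⟨w⟩, ⟨PullbackCone.IsLimit.mk w (fun s => pullback.lift _ s.snd (hw s)) (fun s => ?_)
    (fun s => pullback.lift_snd _ _ _) fun s m h1 h2 => ?_⟩⟩
  · refine pullback.hom_ext ?_ ?_
    · show (_ ≫ stabPt a x) ≫ stabIncl a = s.fst ≫ stabIncl a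
      rw [Category.assoc, hi, comp_lift, pullback.lift_fst, pullback.lift_snd_assoc]
      ext1
      · rw [lift_fst]
      · rw [lift_snd, Category.assoc, stab_snd, s.condition]
    · show (_ ≫ stabPt a x) ≫ stabProj a = s.fst ≫ stabProj a
      rw [Category.assoc, w, pullback.lift_snd_assoc, s.condition]
  · refine pullback.hom_ext ?_ (by rw [pullback.lift_snd, h2])
    rw [pullback.lift_fst, ← h1, Category.assoc, Category.assoc, reassoc_of% hi, lift_fst]

variable [LocallyOfFiniteType G.hom] [LocallyOfFiniteType X.hom]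

theorem lft_stabProj : LocallyOfFiniteType (stabProj a).left := by
  have h : IsPullback (stabIncl a).left (stabProj a).left (lift a.act (snd G X)).left (lift (𝟙 X) (𝟙 X)).left :=
    (IsPullback.of_hasPullback _ _).map (Over.forget _)
  refine MorphismProperty.of_isPullback h ?_
  haveI : LocallyOfFiniteType (G ⊗ X).hom :=
    inferInstanceAs (LocallyOfFiniteType (pullback.fst G.hom X.hom ≫ G.hom))
  haveI : LocallyOfFiniteType ((lift a.act (snd G X)).left ≫ (X ⊗ X).hom) := by rw [Over.w]; infer_instance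
  exact locallyOfFiniteType_of_comp _ (X ⊗ X).hom

/-- The dimension of the stabiliser is the dimension of the family at the unit. -/
theorem fibreDimAt_stabOne [IsAlgClosed k] :
    FlatMor.fibreDimAt (stabProj a).left ((stabOne a).left (x.left (IsLocalRing.closedPoint k))) =
      topologicalKrullDim ↥(Limits.pullback (a.orbitMap x).left x.left) := by
  haveI := lft_stabProj a
  let A := Limits.pullback (a.orbitMap x) x
  let i : A ⟶ G := pullback.fst _ _
  have hA : ∀ {T : Over (Spec (CommRingCat.of k))} (p q : T ⟶ A), p ≫ i = q ≫ i → p = q := fun p q h =>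
    pullback.hom_ext h (toUnit_unique _ _)
  have hsq : IsPullback (stabPt a x).left A.hom (stabProj a).left x.left := by
    have h := (isPullback_stabPt a x).map (Over.forget _)
    have e : (pullback.snd (a.orbitMap x) x).left = A.hom :=
      (Category.comp_id _).symm.trans (Over.w (pullback.snd (a.orbitMap x) x))
    rwa [show (Over.forget _).map (pullback.snd (a.orbitMap x) x) = A.hom from e] at h
  haveI : LocallyOfFiniteType A.hom := MorphismProperty.of_isPullback hsq (lft_stabProj a)
  obtain ⟨e, he⟩ : ∃ e : 𝟙_ (Over (Spec (CommRingCat.of k))) ⟶ A, e ≫ i = 1 :=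
    ⟨pullback.lift 1 (𝟙 _) (by
      rw [OrbitLib.comp_orbitMap, GrpShear.lift_one_act, toUnit_unique (toUnit _) (𝟙 _)]), pullback.lift_fst _ _ _⟩
  let p₀ := e.left (IsLocalRing.closedPoint k)
  have e1 : (stabPt a x).left p₀ = (stabOne a).left (x.left (IsLocalRing.closedPoint k)) := by
    have : e ≫ stabPt a x = x ≫ stabOne a := by
      refine pullback.hom_ext ?_ ?_
      · show (e ≫ stabPt a x) ≫ pullback.fst _ _ = (x ≫ stabOne a) ≫ stabIncl a
        rw [Category.assoc, stabPt, pullback.lift_fst, Category.assoc, stabOne_incl, comp_lift, comp_lift,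
          MonObj.comp_one, Category.comp_id, he, ← Category.assoc, toUnit_unique (e ≫ pullback.snd _ _) (𝟙 _), Category.id_comp]
      · show (e ≫ stabPt a x) ≫ pullback.snd _ _ = (x ≫ stabOne a) ≫ stabProj a
        rw [Category.assoc, stabPt, pullback.lift_snd, Category.assoc, stabOne_proj, Category.comp_id,
          ← Category.assoc, toUnit_unique (e ≫ pullback.snd _ _) (𝟙 _), Category.id_comp]
    show (stabPt a x).left (e.left _) = _
    rw [← Scheme.Hom.comp_apply, ← Over.comp_left, this, Over.comp_left, Scheme.Hom.comp_apply]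
  rw [← e1, ← FibDimLib.fibreDimAt_baseChange hsq p₀]
  -- homogeneity
  have hle : ∀ p : A.left, FlatMor.fibreDimAt A.hom p ≤ FlatMor.fibreDimAt A.hom p₀ := by
    intro p
    haveI : JacobsonSpace A.left := LocallyOfFiniteType.jacobsonSpace A.hom
    obtain ⟨z, hz, hzc⟩ := nonempty_inter_closedPoints (Z := closure {p})
      ⟨p, subset_closure rfl⟩ isClosed_closure.isLocallyClosed
    refine (FibDimLib.fibreDimAt_le_of_specializes A.hom (specializes_iff_mem_closure.2 hz)).trans (le_of_eq ?_)
    let m : 𝟙_ (Over (Spec (CommRingCat.of k))) ⟶ A :=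
      Over.homMk (pointOfClosedPoint A.hom z hzc) (pointOfClosedPoint_comp _ _ _)
    let hm : ∀ g : 𝟙_ (Over (Spec (CommRingCat.of k))) ⟶ G, g ≫ a.orbitMap x = x →
        (A ⟶ A) := fun g hg => pullback.lift ((toUnit A ≫ g) * i) (toUnit A) (by
      rw [OrbitLib.comp_orbitMap, GrpShear.lift_mul_act]
      have hi : lift i (toUnit A ≫ x) ≫ a.act = toUnit A ≫ x := by
        rw [← OrbitLib.comp_orbitMap, toUnit_unique (toUnit A) (pullback.snd (a.orbitMap x) x)]
        exact pullback.condition
      rw [hi, ← comp_lift, Category.assoc]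
      conv_rhs => rw [← hg, OrbitLib.comp_orbitMap, toUnit_unique (toUnit (𝟙_ (Over (Spec (CommRingCat.of k))))) (𝟙 _), Category.id_comp])
    have hg : (m ≫ i) ≫ a.orbitMap x = x := by
      rw [Category.assoc, pullback.condition, ← Category.assoc, toUnit_unique (m ≫ pullback.snd _ _) (𝟙 _), Category.id_comp]
    have hg' : (m ≫ i)⁻¹ ≫ a.orbitMap x = x := by
      rw [OrbitLib.comp_orbitMap, toUnit_unique (toUnit (𝟙_ (Over (Spec (CommRingCat.of k))))) (𝟙 _), Category.id_comp]
      conv_lhs => rw [← hg, OrbitLib.comp_orbitMap, toUnit_unique (toUnit (𝟙_ (Over (Spec (CommRingCat.of k))))) (𝟙 _), Category.id_comp]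
      rw [← GrpShear.lift_mul_act, inv_mul_cancel, GrpShear.lift_one_act]
    let τ := hm (m ≫ i) hg
    let τ' := hm (m ≫ i)⁻¹ hg'
    have hτ : τ ≫ i = (toUnit A ≫ m ≫ i) * i := by
      simp only [τ, hm, i, A]
      exact pullback.lift_fst _ _ _
    have hτ' : τ' ≫ i = (toUnit A ≫ (m ≫ i)⁻¹) * i := by
      simp only [τ', hm, i, A]
      exact pullback.lift_fst _ _ _
    haveI : IsIso τ := ⟨τ', hA _ _ (by
        rw [Category.assoc, hτ', MonObj.comp_mul, hτ, comp_toUnit_assoc, GrpObj.comp_inv, inv_mul_cancel_left,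
          Category.id_comp]), hA _ _ (by
        rw [Category.assoc, hτ, MonObj.comp_mul, hτ', comp_toUnit_assoc, GrpObj.comp_inv, mul_inv_cancel_left,
          Category.id_comp])⟩
    haveI : IsIso τ.left := ((Over.forget _).mapIso (asIso τ)).isIso_hom
    have hem : e ≫ τ = m := hA _ _ (by
      rw [Category.assoc, hτ, MonObj.comp_mul, he, _root_.mul_one, ← Category.assoc,
        toUnit_unique (e ≫ toUnit A) (𝟙 _), Category.id_comp])
    have h3 := FibDimLib.fibreDimAt_comp_isOpenImmersion τ.left A.hom p₀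
    rw [Over.w τ] at h3
    have hz' : τ.left p₀ = z := by
      show τ.left (e.left _) = z
      rw [← Scheme.Hom.comp_apply, ← Over.comp_left, hem]
      exact pointOfClosedPoint_apply _ _ _ _
    rw [hz'] at h3
    exact h3.symm
  haveI : Subsingleton ↥(Spec (CommRingCat.of k)) := inferInstanceAs (Subsingleton (PrimeSpectrum k))
  have hw : IsHomeomorph (A.hom.fiberι (A.hom p₀)) :=
    isHomeomorph_iff_isEmbedding_surjective.mpr ⟨(A.hom.fiberι _).isEmbedding, Set.range_eq_univ.mp
      ((A.hom.range_fiberι _).trans (Set.eq_univ_of_forall fun z => Subsingleton.elim _ _))⟩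
  have hdim : topologicalKrullDim ↥A.left = topologicalKrullDim ↥(Limits.pullback (a.orbitMap x).left x.left) :=
    IsHomeomorph.topologicalKrullDim_eq _
      (Scheme.homeoOfIso ((IsPullback.of_hasPullback (a.orbitMap x) x).map (Over.forget _)).isoPullback).isHomeomorph
  rw [← hdim, ← IsHomeomorph.topologicalKrullDim_eq _ hw]
  exact le_antisymm (FibDimLib.fibreDimAt_le_fiber A.hom p₀)
    ((FibDimLib.topologicalKrullDim_fiber_le_iff A.hom _ _).2 fun p _ => hle p)

theorem dim_closure_orbit [QuasiCompact G.hom] [QuasiCompact X.hom] :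
    topologicalKrullDim ↥(closure (OrbitLib.orbit a x)) = topologicalKrullDim ↥(OrbitLib.orbit a x) := by
  haveI : CompactSpace X.left := QuasiCompact.compactSpace_of_compactSpace X.hom
  refine le_antisymm ?_ (IsEmbedding.inclusion subset_closure).isInducing.topologicalKrullDim_le
  obtain ⟨O, Z, hO, hZ, hC⟩ := OrbitLib.isLocallyClosed_orbit a x
  let W : X.left.Opens := ⟨O, hO⟩
  refine OrbitLib.dim_closed_le isClosed_closure fun c hc => ?_
  by_cases hco : c ∈ OrbitLib.orbit a x
  · have hcW : c ∈ O := (hC ▸ hco : c ∈ O ∩ Z).1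
    rw [← FibDimLib.topologicalKrullDim_closure_open X W ⟨c, hcW⟩]
    have hmem : ∀ w : ↥(closure ({⟨c, hcW⟩} : Set W)), (Subtype.val w).1 ∈ OrbitLib.orbit a x := fun w =>
      hC.ge ⟨(Subtype.val w).2, closure_minimal (Set.singleton_subset_iff.mpr (hC ▸ hco : c ∈ O ∩ Z).2) hZ
        (((specializes_iff_mem_closure.mpr w.2).map continuous_subtype_val).mem_closure)⟩
    exact ((IsEmbedding.subtypeVal.comp IsEmbedding.subtypeVal).codRestrict _ hmem).isInducing.topologicalKrullDim_le
  · have hsub : closure ({c} : Set X.left) ⊆ closure (OrbitLib.orbit a x) \ OrbitLib.orbit a x := by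
      intro z hz
      refine ⟨closure_minimal (Set.singleton_subset_iff.mpr hc) isClosed_closure hz, fun hzo => hco ?_⟩
      have hcO : c ∈ O := (specializes_iff_mem_closure.2 hz).mem_open hO (hC ▸ hzo : z ∈ O ∩ Z).1
      exact hC.ge ⟨hcO, closure_minimal (fun d hd => (hC ▸ hd : d ∈ O ∩ Z).2) hZ hc⟩
    exact ((IsEmbedding.inclusion hsub).isInducing.topologicalKrullDim_le).trans
      (OrbitLib.dim_boundary_lt a x).le

/-- Rational points with orbit of dimension at most `r` are those of a closed set. -/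
theorem exists_isClosed_orbitDim_le [IsAlgClosed k] [QuasiCompact G.hom] [QuasiCompact X.hom] (r : ℕ) :
    ∃ Z : Set X.left, IsClosed Z ∧ ∀ y : 𝟙_ (Over (Spec (CommRingCat.of k))) ⟶ X,
      topologicalKrullDim ↥(closure (Set.range (a.orbitMap y).left.base)) ≤ (r : WithBot ℕ∞) ↔
        Set.range y.left.base ⊆ Z := by
  haveI := lft_stabProj a
  haveI : Nonempty G.left := ⟨(1 : 𝟙_ (Over (Spec (CommRingCat.of k))) ⟶ G).left (IsLocalRing.closedPoint k)⟩
  haveI : CompactSpace G.left := QuasiCompact.compactSpace_of_compactSpace G.hom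
  obtain ⟨n, hn⟩ := OrbitLib.exists_dim_eq_nat G
  haveI : Subsingleton ↥(Spec (CommRingCat.of k)) := inferInstanceAs (Subsingleton (PrimeSpectrum k))
  let d : X.left → WithBot ℕ∞ := fun z => FlatMor.fibreDimAt (stabProj a).left ((stabOne a).left z)
  let Z : Set X.left := {z | (n : WithBot ℕ∞) ≤ (r : WithBot ℕ∞) + d z}
  have hZ : IsClosed Z := by
    have e : Zᶜ = ⋃ (m : ℕ) (_ : r + m < n),
        (stabOne a).left ⁻¹' {w | FlatMor.fibreDimAt (stabProj a).left w ≤ (m : WithBot ℕ∞)} := by
      ext z
      obtain ⟨j, hj⟩ := UOpenLib.exists_fibreDimAt_eq_nat (stabProj a).left ((stabOne a).left z)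
      simp only [Z, d, Set.mem_compl_iff, Set.mem_setOf_eq, Set.mem_iUnion, Set.mem_preimage, hj]
      norm_cast
      exact ⟨fun h => ⟨j, not_le.1 h, le_rfl⟩, fun ⟨m, h1, h2⟩ => by omega⟩
    rw [← isOpen_compl_iff, e]
    exact isOpen_iUnion fun m => isOpen_iUnion fun _ =>
      (FibDimLib.isOpen_fibreDimAt_le _ _).preimage (stabOne a).left.continuous
  refine ⟨Z, hZ, fun y => ?_⟩
  have hr : Set.range y.left.base = {y.left (IsLocalRing.closedPoint k)} := by
    refine subset_antisymm ?_ (Set.singleton_subset_iff.mpr ⟨_, rfl⟩)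
    rintro _ ⟨q, rfl⟩
    exact congrArg y.left.base (@Subsingleton.elim (PrimeSpectrum k) _ q _)
  have hd : d (y.left (IsLocalRing.closedPoint k)) = _ := fibreDimAt_stabOne a y
  have hadd := OrbitLib.dim_eq_add a y
  obtain ⟨j, hj⟩ := UOpenLib.exists_fibreDimAt_eq_nat (stabProj a).left
    ((stabOne a).left (y.left (IsLocalRing.closedPoint k)))
  rw [← fibreDimAt_stabOne a y, hj, hn] at hadd
  rw [hr, Set.singleton_subset_iff]
  show topologicalKrullDim ↥(closure (OrbitLib.orbit a y)) ≤ _ ↔ (n : WithBot ℕ∞) ≤ (r : WithBot ℕ∞) + d _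
  rw [dim_closure_orbit, hadd, show d (y.left (IsLocalRing.closedPoint k)) = (j : WithBot ℕ∞) from hj]
  generalize topologicalKrullDim ↥(OrbitLib.orbit a y) = o at hadd ⊢
  constructor
  · exact fun h => add_le_add h le_rfl
  · intro h
    match o with
    | ⊥ => exact bot_le
    | (⊤ : ℕ∞) =>
      change ((n : ℕ∞) : WithBot ℕ∞) = ((⊤ : ℕ∞) : WithBot ℕ∞) + ((j : ℕ∞) : WithBot ℕ∞) at hadd
      rw [← WithBot.coe_add, WithBot.coe_inj, top_add] at hadd
      exact absurd hadd (ENat.natCast_ne_top n)
    | ((m : ℕ) : ℕ∞) =>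
      norm_cast at h ⊢
      omega

end Groth.Agent.OrbitClosure
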